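import Groth.Agent.L24.Boot.QuotFlat
import Groth.Agent.L24.Alg.SourceFppf
import Groth.Agent.L24.LocQ.Descent
import Groth.Agent.L23.LocP
import Groth.Agent.S12442

/-!
Descent of properties of morphisms of algebraic spaces along surjections of sheaves on the source.
-/

set_option autoImplicit false
set_option backward.isDefEq.respectTransparency false
set_option backward.isDefEq.respectTransparency.types false

universe u

open CategoryTheory CategoryTheory.Limits AlgebraicGeometry Opposite AlgSp

namespace Groth.L09.SurjDesc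

theorem lft_of_section {A B C : Scheme.{u}} (π : A ⟶ B) (s : B ⟶ A) (hs : s ≫ π = 𝟙 B) (m : B ⟶ C)
    [LocallyOfFiniteType (π ≫ m)] : LocallyOfFiniteType m := by
  have : LocallyOfFiniteType (s ≫ π) := by rw [hs]; infer_instance
  have : LocallyOfFiniteType s := locallyOfFiniteType_of_comp s π
  have h : m = s ≫ π ≫ m := by rw [reassoc_of% hs]
  rw [h]
  infer_instance

theorem lfp_of_section {A B C : Scheme.{u}} (π : A ⟶ B) (s : B ⟶ A) (hs : s ≫ π = 𝟙 B)
    (m : B ⟶ C) [LocallyOfFinitePresentation (π ≫ m)] : LocallyOfFinitePresentation m := by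
  have : LocallyOfFiniteType π := locallyOfFiniteType_of_comp π m
  have : LocallyOfFinitePresentation (s ≫ π) := by rw [hs]; infer_instance
  have : LocallyOfFinitePresentation s := Groth.Agent.S12442.result s π
  have h : m = s ≫ π ≫ m := by rw [reassoc_of% hs]
  rw [h]
  infer_instance

theorem flat_of_retract_ringHom {A B C : Type u} [CommRing A] [CommRing B] [CommRing C] (φ : A →+* B)
    (i : B →+* C) (r : C →+* B) (hr : r.comp i = RingHom.id B) (h : (i.comp φ).Flat) : φ.Flat := by
  algebraize [φ, i.comp φ]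
  let i' : B →ₗ[A] C :=
    { toFun := i, map_add' := map_add i, map_smul' := fun a b => by
        simp only [Algebra.smul_def, map_mul, RingHom.id_apply]; rfl }
  let r' : C →ₗ[A] B :=
    { toFun := r, map_add' := map_add r, map_smul' := fun a c => by
        simp only [Algebra.smul_def, map_mul, RingHom.id_apply]
        exact congrArg (· * _) (DFunLike.congr_fun hr (φ a)) }
  exact Module.Flat.of_retract i' r' (LinearMap.ext fun b => DFunLike.congr_fun hr b)

theorem flat_of_section {A B C : Scheme.{u}} (π : A ⟶ B) (s : B ⟶ A) (hs : s ≫ π = 𝟙 B) (m : B ⟶ C)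
    [Flat (π ≫ m)] : Flat m := by
  refine Flat.of_stalkMap m fun b => ?_
  have e : (s ≫ π ≫ m).stalkMap b = (π ≫ m).stalkMap (s b) ≫ s.stalkMap b := Scheme.Hom.stalkMap_comp _ _ b
  have h1 : ((π ≫ m).stalkMap (s b)).hom.Flat := Flat.stalkMap (π ≫ m) (s b)
  rw [Scheme.Hom.stalkMap_comp] at h1
  suffices key : ∀ (y : B) (hy : π (s b) = y), (m.stalkMap (π (s b))).hom.Flat → (m.stalkMap y).hom.Flat by
    refine key b (by rw [← Scheme.Hom.comp_apply, hs]; rfl) ?_
    let e' : B.presheaf.stalk b ⟶ B.presheaf.stalk (π (s b)) :=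
      (B.presheaf.stalkCongr (.of_eq (by rw [← Scheme.Hom.comp_apply, hs]; rfl))).hom
    refine flat_of_retract_ringHom _ (π.stalkMap (s b)).hom (s.stalkMap b ≫ e').hom ?_ h1
    have : π.stalkMap (s b) ≫ s.stalkMap b ≫ e' = 𝟙 _ := by
      rw [← Category.assoc, ← Scheme.Hom.stalkMap_comp, Scheme.Hom.stalkMap_congr_hom (s ≫ π) (𝟙 B) hs,
        Scheme.Hom.stalkMap_id]
      simp [e']
    exact congrArg CommRingCat.Hom.hom this
  rintro y rfl h
  exact h

variable {S : Scheme.{u}} {X Y Z : Sp S}

/-- Descent along surjections of sheaves on the source. -/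
theorem locP_of_epi {P : MorphismProperty Scheme.{u}} (hP : Groth.L23.EtLocal P)
    (hle : ∀ {A B : Scheme.{u}} (φ : A ⟶ B), Flat φ → LocallyOfFinitePresentation φ → P φ)
    (hret : ∀ {A B C : Scheme.{u}} (π : A ⟶ B) (s : B ⟶ A), s ≫ π = 𝟙 B → ∀ (m : B ⟶ C),
      P (π ≫ m) → P m)
    (hdesc : ∀ {A B C : Scheme.{u}} (χ : A ⟶ B) (k : B ⟶ C), Flat χ → LocallyOfFinitePresentation χ →
      Surjective χ → P (χ ≫ k) → P k)
    (hX : IsAlgSpace X) (hY : IsAlgSpace Y) (hZ : IsAlgSpace Z) {g : X ⟶ Y} {h : Y ⟶ Z} [Epi g]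
    (hgh : LocP P (g ≫ h)) : LocP P h := by
  have := hP.comp
  obtain ⟨W, c, hc, hcs⟩ := hZ.atlas
  obtain ⟨V, b, k, hb, w, hbs⟩ := Groth.L23.exists_chart_over hY hZ h hc
  refine Groth.L23.locP_of_chart hP hb (hbs hcs) hc w ?_
  obtain ⟨T, v, u, hv₁, hv₂, hv₃, hu⟩ := Groth.L24.Boot.exists_lift_of_epi g b
  have sqX := IsPullback.of_hasPullback g b
  have hP' : IsAlgSpace (pullback g b) :=
    Groth.L23.isAlgSpace_of_isPullback hY.diag hX (IsAlgSpace.yon_obj V) sqX
  obtain ⟨U, e, he, hes⟩ := hP'.atlas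
  obtain ⟨π, hπ⟩ := (yon S).map_surjective (e ≫ pullback.snd g b)
  have hπk : P (π ≫ k).left := hgh (e ≫ pullback.fst g b) c (π ≫ k)
    (Groth.L23.repWith_comp he (Groth.L23.repWith_of_isPullback sqX.flip hb)) hc
    (by rw [Functor.map_comp, hπ, Category.assoc, Category.assoc, Category.assoc, pullback.condition_assoc, w])
  let l : (yon S).obj T ⟶ pullback g b := pullback.lift u ((yon S).map v) hu
  obtain ⟨T', p, q, sq⟩ := Groth.L23.exists_isPullback_of_representable he.1 l
  have : Etale q.left := Groth.L23.repWith_prop he sq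
  have : Surjective q.left := Groth.L23.repWith_prop hes sq
  have hpq : p ≫ π = q ≫ v := (yon S).map_injective (by
    rw [Functor.map_comp, hπ, reassoc_of% sq.w, pullback.lift_snd, ← Functor.map_comp])
  have e1 : p.left ≫ π.left = q.left ≫ v.left := congrArg Over.Hom.left hpq
  have : Flat (q.left ≫ v.left) := inferInstance
  have : LocallyOfFinitePresentation (q.left ≫ v.left) := inferInstance
  refine hdesc (q.left ≫ v.left) k.left inferInstance inferInstance inferInstance ?_
  let s : T'.left ⟶ pullback π.left (q.left ≫ v.left) :=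
    pullback.lift p.left (𝟙 _) (by rw [e1, Category.id_comp])
  have hPA : P (pullback.snd π.left (q.left ≫ v.left) ≫ (q.left ≫ v.left) ≫ k.left) := by
    rw [← pullback.condition_assoc]
    exact P.comp_mem _ _ (hle _ inferInstance inferInstance) (by rw [← Over.comp_left]; exact hπk)
  exact hret _ s (pullback.lift_snd _ _ _) _ hPA

end Groth.L09.SurjDesc
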